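import Cfsg.Agent.H539.Lim.Defs

/-!
# S5242, piece I1: the central extension with given Sylow subgroup (stable classes in degree 2) (helper544)

`θ : S → G₀` a homomorphism onto the Sylow subgroup `T` with central kernel `A`, stable.  `W = (Ω → S) ⋊ G₀`,
`Ω = G₀ / T`; `E ≤ W` the preimage of the monomial image of `G₀` in `(Ω → T) ⋊ G₀` (representatives `r`), an extension
of `G₀` by `Ω → A`; `L = E / N`, `N` the functions `Ω → A` with product `1`.  The stability gives a monomial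
homomorphism `S → E`, `a ↦ (a, .., a)` for `a ∈ A`, and `|Ω|` is prime to `|S|`.
-/

set_option autoImplicit false

namespace Cfsg.Agent.H544.Lim

open Cfsg.Agent.H539.Lim
open scoped IsMulCommutative

universe u v

section wr

variable (G₀ : Type u) [Group G₀] (Ω : Type u) [MulAction G₀ Ω] (S : Type v) [Group S]

/-- the action of `G₀` on the functions `Ω → S` -/
def actF : G₀ →* MulAut (Ω → S) where
  toFun g :=
    { toFun := fun f ω => f (g⁻¹ • ω)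
      invFun := fun f ω => f (g • ω)
      left_inv := fun f => by funext ω; simp
      right_inv := fun f => by funext ω; simp
      map_mul' := fun _ _ => rfl }
  map_one' := by
    ext f ω
    simp
  map_mul' g g' := by
    ext f ω
    simp [mul_smul]

/-- the wreath product -/
abbrev Wr : Type (max u v) := (Ω → S) ⋊[actF G₀ Ω S] G₀

variable {G₀ Ω S}

theorem wr_mul_left (x y : Wr G₀ Ω S) (ω : Ω) : (x * y).left ω = x.left ω * y.left (x.right⁻¹ • ω) := rfl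

theorem wr_inv_left (x : Wr G₀ Ω S) (ω : Ω) : (x⁻¹).left ω = (x.left (x.right • ω))⁻¹ := by
  show (x.left ((x.right⁻¹)⁻¹ • ω))⁻¹ = _
  rw [inv_inv]

/-- the preimage of the monomial image of `G₀` -/
def EE (θ : S →* G₀) (r : Ω → G₀) : Subgroup (Wr G₀ Ω S) where
  carrier := {x | ∀ ω, θ (x.left ω) = (r ω)⁻¹ * x.right * r (x.right⁻¹ • ω)}
  one_mem' := by
    intro ω
    show θ 1 = (r ω)⁻¹ * 1 * r ((1 : G₀)⁻¹ • ω)
    rw [map_one, inv_one, one_smul, mul_one, inv_mul_cancel]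
  mul_mem' := by
    intro x y hx hy ω
    rw [wr_mul_left, SemidirectProduct.mul_right, map_mul, hx, hy, mul_inv_rev, mul_smul]
    group
  inv_mem' := by
    intro x hx ω
    rw [wr_inv_left, SemidirectProduct.inv_right, map_inv, hx, inv_inv, inv_smul_smul]
    group

end wr

/-- **the construction of the extension from the monomial representation `f`** -/
theorem ext_of {G₀ : Type u} [Group G₀] [Finite G₀] {Ω : Type u} [Finite Ω] [MulAction G₀ Ω] {S : Type v}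
    [Group S] [Finite S] (θ : S →* G₀) (hker : θ.ker ≤ Subgroup.center S) (r : Ω → G₀)
    (hr : ∀ g ω, (r ω)⁻¹ * g * r (g⁻¹ • ω) ∈ θ.range) (hcop : (Nat.card S).Coprime (Nat.card Ω))
    (f : S → Ω → S) (hf : ∀ s s' ω, f (s * s') ω = f s ω * f s' ((θ s)⁻¹ • ω))
    (hfθ : ∀ s ω, θ (f s ω) = (r ω)⁻¹ * θ s * r ((θ s)⁻¹ • ω)) (hfa : ∀ s, θ s = 1 → ∀ ω, f s ω = s) :
    ∃ (L : Type (max u v)) (_ : Group L) (_ : Finite L) (π : L →* G₀) (ι : S →* L), Function.Surjective π ∧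
      Function.Injective ι ∧ π.comp ι = θ ∧ π.ker = θ.ker.map ι ∧ π.ker ≤ Subgroup.center L := by
  classical
  have : Fintype Ω := Fintype.ofFinite Ω
  have hfinW : Finite (Wr G₀ Ω S) :=
    Finite.of_injective (fun x : Wr G₀ Ω S => (x.left, x.right)) fun x y hxy =>
      SemidirectProduct.ext (congrArg Prod.fst hxy) (congrArg Prod.snd hxy)
  let E : Subgroup (Wr G₀ Ω S) := EE θ r
  -- the kernel
  let N : Subgroup E :=
    { carrier := {x | (x : Wr G₀ Ω S).right = 1 ∧ ∃ a : Ω → Subgroup.center S,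
        (∀ ω, (x : Wr G₀ Ω S).left ω = a ω) ∧ ∏ ω, a ω = 1}
      one_mem' := ⟨rfl, fun _ => 1, fun ω => rfl, Finset.prod_const_one⟩
      mul_mem' := by
        rintro x y ⟨hx, a, ha, ha1⟩ ⟨hy, b, hb, hb1⟩
        refine ⟨?_, fun ω => a ω * b ω, fun ω => ?_, ?_⟩
        · show (x : Wr G₀ Ω S).right * (y : Wr G₀ Ω S).right = 1
          rw [hx, hy, mul_one]
        · show ((x : Wr G₀ Ω S) * (y : Wr G₀ Ω S)).left ω = _
          rw [wr_mul_left, hx, inv_one, one_smul, ha, hb]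
          rfl
        · rw [Finset.prod_mul_distrib, ha1, hb1, mul_one]
      inv_mem' := by
        rintro x ⟨hx, a, ha, ha1⟩
        refine ⟨?_, fun ω => (a ω)⁻¹, fun ω => ?_, ?_⟩
        · show ((x : Wr G₀ Ω S).right)⁻¹ = 1
          rw [hx, inv_one]
        · show ((x : Wr G₀ Ω S)⁻¹).left ω = _
          rw [wr_inv_left, hx, one_smul, ha]
          rfl
        · rw [Finset.prod_inv_distrib, ha1, inv_one] }
  have hN : N.Normal := by
    refine ⟨?_⟩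
    rintro x ⟨hx, a, ha, ha1⟩ e
    refine ⟨?_, fun ω => a ((e : Wr G₀ Ω S).right⁻¹ • ω), fun ω => ?_, ?_⟩
    · show (e : Wr G₀ Ω S).right * (x : Wr G₀ Ω S).right * ((e : Wr G₀ Ω S).right)⁻¹ = 1
      rw [hx, mul_one, mul_inv_cancel]
    · show ((e : Wr G₀ Ω S) * (x : Wr G₀ Ω S) * (e : Wr G₀ Ω S)⁻¹).left ω = _
      rw [wr_mul_left, wr_mul_left, wr_inv_left, SemidirectProduct.mul_right, hx, mul_one, smul_inv_smul, ha,
        (Subgroup.mem_center_iff.1 (a ((e : Wr G₀ Ω S).right⁻¹ • ω)).2 ((e : Wr G₀ Ω S).left ω)),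
        mul_inv_cancel_right]
    · rw [← ha1]
      exact Fintype.prod_equiv (MulAction.toPerm ((e : Wr G₀ Ω S).right⁻¹)) _ _ fun ω => rfl
  let π : E ⧸ N →* G₀ := QuotientGroup.lift N (SemidirectProduct.rightHom.comp E.subtype) fun x hx => hx.1
  let ι₀ : S →* E :=
    { toFun := fun s => ⟨⟨f s, θ s⟩, hfθ s⟩
      map_one' := by
        apply Subtype.ext
        refine SemidirectProduct.ext ?_ ?_
        · funext ω
          exact hfa 1 (map_one θ) ω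
        · exact map_one θ
      map_mul' := fun s s' => by
        apply Subtype.ext
        refine SemidirectProduct.ext ?_ ?_
        · funext ω
          exact hf s s' ω
        · exact map_mul θ s s' }
  let ι : S →* E ⧸ N := (QuotientGroup.mk' N).comp ι₀
  have hπι : π.comp ι = θ := by
    ext s
    rfl
  have hcent : ∀ a ∈ θ.ker, ι a ∈ Subgroup.center (E ⧸ N) := by
    intro a ha
    rw [Subgroup.mem_center_iff]
    intro z
    obtain ⟨e, rfl⟩ := QuotientGroup.mk_surjective z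
    have ha' : θ a = 1 := ha
    have h1 : e * ι₀ a = ι₀ a * e := by
      apply Subtype.ext
      refine SemidirectProduct.ext ?_ ?_
      · funext ω
        show ((e : Wr G₀ Ω S) * (ι₀ a : Wr G₀ Ω S)).left ω = ((ι₀ a : Wr G₀ Ω S) * (e : Wr G₀ Ω S)).left ω
        rw [wr_mul_left, wr_mul_left]
        show (e : Wr G₀ Ω S).left ω * f a _ = f a ω * (e : Wr G₀ Ω S).left ((θ a)⁻¹ • ω)
        rw [hfa a ha', hfa a ha', ha', inv_one, one_smul]
        exact Subgroup.mem_center_iff.1 (hker ha) _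
      · show (e : Wr G₀ Ω S).right * θ a = θ a * (e : Wr G₀ Ω S).right
        rw [ha', one_mul, mul_one]
    show (e : E ⧸ N) * (ι₀ a : E ⧸ N) = (ι₀ a : E ⧸ N) * (e : E ⧸ N)
    rw [← QuotientGroup.mk_mul, ← QuotientGroup.mk_mul, h1]
  have hkerπ : π.ker = θ.ker.map ι := by
    apply le_antisymm
    · intro x hx
      obtain ⟨e, rfl⟩ := QuotientGroup.mk_surjective x
      have he : (e : Wr G₀ Ω S).right = 1 := hx
      have hθe : ∀ ω, θ ((e : Wr G₀ Ω S).left ω) = 1 := by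
        intro ω
        have h1 : θ ((e : Wr G₀ Ω S).left ω) = (r ω)⁻¹ * (e : Wr G₀ Ω S).right * r ((e : Wr G₀ Ω S).right⁻¹ • ω) := e.2 ω
        rw [h1, he, inv_one, one_smul, mul_one, inv_mul_cancel]
      let a : Ω → Subgroup.center S := fun ω => ⟨(e : Wr G₀ Ω S).left ω, hker (hθe ω)⟩
      let K : Subgroup (Subgroup.center S) := (θ.comp (Subgroup.center S).subtype).ker
      have hbK : ∏ ω, a ω ∈ K := Subgroup.prod_mem K fun ω _ => hθe ω
      have hcopK : (Nat.card K).Coprime (Nat.card Ω) :=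
        Nat.Coprime.coprime_dvd_left ((Subgroup.card_subgroup_dvd_card K).trans
          (Subgroup.card_subgroup_dvd_card (Subgroup.center S))) hcop
      obtain ⟨c, hc⟩ : ∃ c : K, c ^ Nat.card Ω = ⟨∏ ω, a ω, hbK⟩ := (powCoprime hcopK).surjective _
      have hc' : (c : Subgroup.center S) ^ Nat.card Ω = ∏ ω, a ω := congrArg Subtype.val hc
      have hθc : θ ((c : Subgroup.center S) : S) = 1 := c.2
      refine ⟨((c : Subgroup.center S) : S), hθc, ?_⟩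
      show (ι₀ ((c : Subgroup.center S) : S) : E ⧸ N) = (e : E ⧸ N)
      rw [QuotientGroup.eq, ← map_inv]
      have hθci : θ (((c : Subgroup.center S) : S)⁻¹) = 1 := by rw [map_inv, hθc, inv_one]
      refine ⟨?_, fun ω => (c : Subgroup.center S)⁻¹ * a ω, fun ω => ?_, ?_⟩
      · show θ (((c : Subgroup.center S) : S)⁻¹) * (e : Wr G₀ Ω S).right = 1
        rw [he, hθci, mul_one]
      · show f (((c : Subgroup.center S) : S)⁻¹) ω *
          (e : Wr G₀ Ω S).left ((θ (((c : Subgroup.center S) : S)⁻¹))⁻¹ • ω) = _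
        rw [hfa _ hθci, hθci, inv_one, one_smul]
        rfl
      · rw [Finset.prod_mul_distrib, Finset.prod_const, Finset.card_univ, ← Nat.card_eq_fintype_card, inv_pow, hc',
          inv_mul_cancel]
    · rintro _ ⟨a, ha, rfl⟩
      show (π.comp ι) a = 1
      rw [hπι]
      exact ha
  refine ⟨E ⧸ N, inferInstance, inferInstance, π, ι, ?_, ?_, hπι, hkerπ, ?_⟩
  · intro g
    choose l hl using fun ω => hr g ω
    exact ⟨((⟨⟨l, g⟩, hl⟩ : E) : E ⧸ N), rfl⟩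
  · rw [injective_iff_map_eq_one]
    intro s hs
    have h1 : ι₀ s ∈ N := (QuotientGroup.eq_one_iff _).1 hs
    obtain ⟨h2, a, ha, ha1⟩ := h1
    have h3 : θ s = 1 := h2
    have h4 : ∀ ω, (a ω : S) = s := fun ω => by
      rw [← ha ω]
      exact hfa s h3 ω
    have h5 : s ^ Nat.card Ω = 1 := by
      have h6 : a = fun _ => (⟨s, hker h3⟩ : Subgroup.center S) := funext fun ω => Subtype.ext (h4 ω)
      rw [h6, Finset.prod_const, Finset.card_univ, ← Nat.card_eq_fintype_card] at ha1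
      exact congrArg Subtype.val ha1
    have h6 : orderOf s ∣ 1 := by
      rw [← hcop]
      exact Nat.dvd_gcd (orderOf_dvd_natCard s) (orderOf_dvd_of_pow_eq_one h5)
    exact orderOf_eq_one_iff.1 (Nat.dvd_one.1 h6)
  · rw [hkerπ]
    rintro _ ⟨a, ha, rfl⟩
    exact hcent a ha

/-- **the monomial homomorphism of `S`** -/
theorem exists_mono {G₀ : Type u} [Group G₀] (T : Subgroup G₀) {S : Type v} [Group S] (θ : S →* G₀)
    (hθ : θ.range = T) (hker : θ.ker ≤ Subgroup.center S)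
    (hst : ∀ g : G₀, ∃ φ : ↥((T ⊓ cj g⁻¹ T).comap θ) →* S,
      (∀ s : ↥((T ⊓ cj g⁻¹ T).comap θ), θ (φ s) = g * θ (s : S) * g⁻¹) ∧
        ∀ s : ↥((T ⊓ cj g⁻¹ T).comap θ), θ (s : S) = 1 → φ s = (s : S)) :
    ∃ (r : G₀ ⧸ T → G₀) (f : S → G₀ ⧸ T → S), (∀ g ω, (r ω)⁻¹ * g * r (g⁻¹ • ω) ∈ θ.range) ∧
      (∀ s s' ω, f (s * s') ω = f s ω * f s' ((θ s)⁻¹ • ω)) ∧
      (∀ s ω, θ (f s ω) = (r ω)⁻¹ * θ s * r ((θ s)⁻¹ • ω)) ∧ ∀ s, θ s = 1 → ∀ ω, f s ω = s := by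
  classical
  have hT : ∀ s, θ s ∈ T := fun s => by rw [← hθ]; exact ⟨s, rfl⟩
  let ρ : G₀ ⧸ T → G₀ := Quotient.out
  have hρ : ∀ ω, ((ρ ω : G₀) : G₀ ⧸ T) = ω := fun ω => Quotient.out_eq' ω
  -- the local homomorphisms
  have hΦ : ∀ ω : G₀ ⧸ T, ∃ Φ : S → S, (∀ s s', θ s • ω = ω → θ s' • ω = ω → Φ (s * s') = Φ s * Φ s') ∧
      (∀ s, θ s • ω = ω → θ (Φ s) = (ρ ω)⁻¹ * θ s * ρ ω) ∧ ∀ s, θ s = 1 → Φ s = s := by
    intro ω
    obtain ⟨φ, h1, h2⟩ := hst (ρ ω)⁻¹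
    have hdom : ∀ s, θ s • ω = ω → s ∈ (T ⊓ cj (ρ ω)⁻¹⁻¹ T).comap θ := by
      intro s hs
      refine ⟨hT s, ?_⟩
      have h3 : ((ρ ω : G₀) : G₀ ⧸ T) = ((θ s * ρ ω : G₀) : G₀ ⧸ T) := by
        rw [hρ]
        conv_lhs => rw [← hs]
        conv_lhs => rw [← hρ ω]
        rfl
      rw [QuotientGroup.eq] at h3
      refine ⟨(ρ ω)⁻¹ * (θ s * ρ ω), h3, ?_⟩
      show (ρ ω)⁻¹⁻¹ * ((ρ ω)⁻¹ * (θ s * ρ ω)) * ((ρ ω)⁻¹⁻¹)⁻¹ = θ s
      group
    let Ψ : S → S := fun s => if h : s ∈ (T ⊓ cj (ρ ω)⁻¹⁻¹ T).comap θ then φ ⟨s, h⟩ else 1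
    have hΨ : ∀ s (hs : θ s • ω = ω), Ψ s = φ ⟨s, hdom s hs⟩ := fun s hs => dif_pos (hdom s hs)
    refine ⟨Ψ, ?_, ?_, ?_⟩
    · intro s s' hs hs'
      have hss : θ (s * s') • ω = ω := by rw [map_mul, mul_smul, hs', hs]
      rw [hΨ _ hss, hΨ _ hs, hΨ _ hs', ← map_mul]
      rfl
    · intro s hs
      rw [hΨ _ hs]
      calc θ (φ ⟨s, hdom s hs⟩) = (ρ ω)⁻¹ * θ s * (ρ ω)⁻¹⁻¹ := h1 _
        _ = (ρ ω)⁻¹ * θ s * ρ ω := by group
    · intro s hs
      have hs' : θ s • ω = ω := by rw [hs, one_smul]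
      rw [hΨ _ hs']
      exact h2 _ hs
  choose Φ hΦ1 hΦ2 hΦ3 using hΦ
  -- the representatives of the orbits
  let rep : G₀ ⧸ T → G₀ ⧸ T := fun ω => (Quotient.mk (MulAction.orbitRel T (G₀ ⧸ T)) ω).out
  have hrep1 : ∀ ω, ∃ u : S, θ u • rep ω = ω := by
    intro ω
    have h1 : (MulAction.orbitRel T (G₀ ⧸ T)) (rep ω) ω := Quotient.mk_out ω
    obtain ⟨t, ht⟩ := h1
    obtain ⟨u, hu⟩ : ((t⁻¹ : T) : G₀) ∈ θ.range := by rw [hθ]; exact (t⁻¹).2
    refine ⟨u, ?_⟩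
    rw [hu, ← ht]
    show (t⁻¹ : T) • (t • ω) = ω
    exact inv_smul_smul t ω
  have hrep2 : ∀ (s : S) ω, rep (θ s • ω) = rep ω := by
    intro s ω
    have h1 : (Quotient.mk (MulAction.orbitRel T (G₀ ⧸ T)) (θ s • ω)) =
        Quotient.mk (MulAction.orbitRel T (G₀ ⧸ T)) ω := Quotient.sound ⟨⟨θ s, hT s⟩, rfl⟩
    show Quotient.out _ = Quotient.out _
    rw [h1]
  have hrep2' : ∀ (s : S) ω, rep ((θ s)⁻¹ • ω) = rep ω := by
    intro s ω
    rw [← map_inv]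
    exact hrep2 _ _
  choose u hu using hrep1
  have huinv : ∀ ω, (θ (u ω))⁻¹ • ω = rep ω := by
    intro ω
    rw [inv_smul_eq_iff]
    exact (hu ω).symm
  -- the element of the stabilizer of the representative
  have hstab : ∀ (s : S) ω, θ ((u ω)⁻¹ * s * u ((θ s)⁻¹ • ω)) • rep ω = rep ω := by
    intro s ω
    rw [map_mul, map_mul, map_inv, mul_smul, mul_smul]
    have h1 := hu ((θ s)⁻¹ • ω)
    rw [hrep2'] at h1
    rw [h1, smul_inv_smul, huinv]
  let r : G₀ ⧸ T → G₀ := fun ω => θ (u ω) * ρ (rep ω)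
  have hr : ∀ ω, ((r ω : G₀) : G₀ ⧸ T) = ω := by
    intro ω
    show ((θ (u ω) * ρ (rep ω) : G₀) : G₀ ⧸ T) = ω
    have h1 : ((θ (u ω) * ρ (rep ω) : G₀) : G₀ ⧸ T) = θ (u ω) • ((ρ (rep ω) : G₀) : G₀ ⧸ T) := rfl
    rw [h1, hρ, hu]
  refine ⟨r, fun s ω => Φ (rep ω) ((u ω)⁻¹ * s * u ((θ s)⁻¹ • ω)), ?_, ?_, ?_, ?_⟩
  · intro g ω
    rw [hθ, mul_assoc, ← QuotientGroup.eq, hr]
    have h1 : ((g * r (g⁻¹ • ω) : G₀) : G₀ ⧸ T) = g • ((r (g⁻¹ • ω) : G₀) : G₀ ⧸ T) := rfl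
    rw [h1, hr, smul_inv_smul]
  · intro s s' ω
    show Φ (rep ω) ((u ω)⁻¹ * (s * s') * u ((θ (s * s'))⁻¹ • ω)) =
      Φ (rep ω) ((u ω)⁻¹ * s * u ((θ s)⁻¹ • ω)) *
        Φ (rep ((θ s)⁻¹ • ω)) ((u ((θ s)⁻¹ • ω))⁻¹ * s' * u ((θ s')⁻¹ • (θ s)⁻¹ • ω))
    have h1 := hstab s' ((θ s)⁻¹ • ω)
    rw [hrep2'] at h1 ⊢
    rw [← hΦ1 (rep ω) _ _ (hstab s ω) h1]
    congr 1
    rw [map_mul, mul_inv_rev, mul_smul]
    group
  · intro s ω
    show θ (Φ (rep ω) ((u ω)⁻¹ * s * u ((θ s)⁻¹ • ω))) =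
      (θ (u ω) * ρ (rep ω))⁻¹ * θ s * (θ (u ((θ s)⁻¹ • ω)) * ρ (rep ((θ s)⁻¹ • ω)))
    rw [hΦ2 _ _ (hstab s ω), hrep2', map_mul, map_mul, map_inv]
    group
  · intro s hs ω
    have hsc : s ∈ Subgroup.center S := hker hs
    show Φ (rep ω) ((u ω)⁻¹ * s * u ((θ s)⁻¹ • ω)) = s
    have h1 : (u ω)⁻¹ * s * u ((θ s)⁻¹ • ω) = s := by
      rw [hs, inv_one, one_smul, Subgroup.mem_center_iff.1 hsc, mul_assoc, inv_mul_cancel, mul_one]
    rw [h1]
    exact hΦ3 _ _ hs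

/-- **I1**: the central extension of `G₀` by `A` with Sylow subgroup `S` -/
theorem exists_ext {p : ℕ} [Fact p.Prime] {G₀ : Type u} [Group G₀] [Finite G₀] (T : Sylow p G₀) {S : Type v}
    [Group S] [Finite S] (hS : IsPGroup p S) (θ : S →* G₀) (hθ : θ.range = (T : Subgroup G₀))
    (hker : θ.ker ≤ Subgroup.center S)
    (hst : ∀ g : G₀, ∃ φ : ↥(((T : Subgroup G₀) ⊓ cj g⁻¹ (T : Subgroup G₀)).comap θ) →* S,
      (∀ s : ↥(((T : Subgroup G₀) ⊓ cj g⁻¹ (T : Subgroup G₀)).comap θ), θ (φ s) = g * θ (s : S) * g⁻¹) ∧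
        ∀ s : ↥(((T : Subgroup G₀) ⊓ cj g⁻¹ (T : Subgroup G₀)).comap θ), θ (s : S) = 1 → φ s = (s : S)) :
    ∃ (L : Type (max u v)) (_ : Group L) (_ : Finite L) (π : L →* G₀) (ι : S →* L), Function.Surjective π ∧
      Function.Injective ι ∧ π.comp ι = θ ∧ π.ker = θ.ker.map ι ∧ π.ker ≤ Subgroup.center L := by
  obtain ⟨r, f, h1, h2, h3, h4⟩ := exists_mono (T : Subgroup G₀) θ hθ hker hst
  have hcop : (Nat.card S).Coprime (Nat.card (G₀ ⧸ (T : Subgroup G₀))) := by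
    obtain ⟨k, hk⟩ := IsPGroup.iff_card.1 hS
    rw [hk]
    refine Nat.Coprime.pow_left _ ?_
    rw [(Fact.out : p.Prime).coprime_iff_not_dvd]
    exact T.not_dvd_index
  exact ext_of θ hker r h1 hcop f h2 h3 h4

end Cfsg.Agent.H544.Lim
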